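import Groth.Agent.Lib.Flatness.Criterion
import Groth.Agent.Lib.Flatness.InjMod
import Mathlib.LinearAlgebra.TensorProduct.RightExactness
import Mathlib.RingTheory.Flat.Basic

/-!
# The first Tor with a quotient after a base change

If `M/IM` is flat over `R/I`, the kernel of `IR' ⊗ (R' ⊗ M) → R' ⊗ M` comes from the kernel of
`I ⊗ M → M`.
-/

universe u

namespace GrothLib.FlatTor

open TensorProduct Function GrothLib.Flatness

variable {R : Type u} [CommRing R] {M : Type u} [AddCommGroup M] [Module R M]

/-- The case of a free `R/I`-module `T`. -/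
theorem mem_range_finsupp (I : Ideal R) {ι : Type u} {Q F : Type u} [AddCommGroup Q] [Module R Q]
    [AddCommGroup F] [Module R F] (j : Q →ₗ[R] F) (y : (ι →₀ R ⧸ I) ⊗[R] Q)
    (hy : j.lTensor _ y = 0) :
    y ∈ LinearMap.range (((I • ⊤ : Submodule R F).comap j).subtype.lTensor (ι →₀ R ⧸ I)) := by
  classical
  let H : Submodule R Q := (I • ⊤ : Submodule R F).comap j
  let e := TensorProduct.finsuppLeft R R (R ⧸ I) Q ι
  let e' := TensorProduct.finsuppLeft R R (R ⧸ I) F ι
  have key : ∀ x, e' (j.lTensor _ x) =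
      Finsupp.mapRange.linearMap (j.lTensor (R ⧸ I)) (e x) := by
    intro x
    induction x using TensorProduct.induction_on with
    | zero => simp
    | add a b ha hb => simp only [map_add, ha, hb]
    | tmul p n =>
      ext i
      simp [e, e', TensorProduct.finsuppLeft_apply_tmul_apply]
  have hc : ∀ t, e y t ∈ LinearMap.range (H.subtype.lTensor (R ⧸ I)) := by
    intro t
    obtain ⟨n, hn⟩ := TensorProduct.mk_surjective R Q (R ⧸ I) Ideal.Quotient.mk_surjective (e y t)
    have h0 := congrArg (fun f => f t) ((key y).symm.trans (by rw [hy, map_zero]))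
    simp only [Finsupp.mapRange.linearMap_apply, Finsupp.mapRange_apply, Finsupp.zero_apply] at h0
    rw [← hn] at h0
    simp only [TensorProduct.mk_apply, LinearMap.lTensor_tmul] at h0
    exact ⟨(1 : R ⧸ I) ⊗ₜ[R] ⟨n, (one_tmul_eq_zero_iff I _).1 h0⟩, hn⟩
  choose η hη using hc
  refine ⟨∑ t ∈ (e y).support, (Finsupp.lsingle t).rTensor H (η t), e.injective ?_⟩
  have hsingle : ∀ (t : ι) (w : (R ⧸ I) ⊗[R] H),
      e (H.subtype.lTensor _ ((Finsupp.lsingle t).rTensor H w)) =
        Finsupp.single t (H.subtype.lTensor (R ⧸ I) w) := by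
    intro t w
    induction w using TensorProduct.induction_on with
    | zero => simp
    | add a b ha hb => simp only [map_add, ha, hb, Finsupp.single_add]
    | tmul p n =>
      simp [e, TensorProduct.finsuppLeft_apply_tmul]
  rw [map_sum, map_sum]
  simp only [H] at hsingle hη ⊢
  simp only [hsingle, hη]
  exact Finsupp.sum_single (e y)

/-- Submodules of modules killed by `I` stay injective after tensoring with `M`. -/
theorem rTensor_subtype_injective (I : Ideal R) (h : Module.Flat (R ⧸ I) ((R ⧸ I) ⊗[R] M))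
    {B : Type u} [AddCommGroup B] [Module R B] (hB : Module.IsTorsionBySet R B I)
    (J : Submodule R B) : Injective (J.subtype.rTensor M) :=
  (LinearMap.lTensor_inj_iff_rTensor_inj M J.subtype).1
    (lTensor_injective_of_flat_quotient I h (A := ↥J) (fun x a => Subtype.ext (@hB x.1 a)) hB
      J.subtype J.injective_subtype)

/-- If `M/IM` is flat over `R/I` and `Q → F → M → 0` is exact, the kernel of `T ⊗ Q → T ⊗ F` for a
module `T` killed by `I` comes from the preimage of `IF`. -/
theorem mem_range_of_lTensor_eq_zero (I : Ideal R)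
    (h : Module.Flat (R ⧸ I) ((R ⧸ I) ⊗[R] M)) {Q F : Type u} [AddCommGroup Q] [Module R Q]
    [AddCommGroup F] [Module R F] (j : Q →ₗ[R] F) (π : F →ₗ[R] M) (hjπ : Exact j π)
    (hπ : Surjective π) {T : Type u} [AddCommGroup T] [Module R T]
    (hT : Module.IsTorsionBySet R T I) (z : T ⊗[R] Q) (hz : j.lTensor T z = 0) :
    z ∈ LinearMap.range (((I • ⊤ : Submodule R F).comap j).subtype.lTensor T) := by
  classical
  let H : Submodule R Q := (I • ⊤ : Submodule R F).comap j
  letI := hT.module
  haveI : IsScalarTower R (R ⧸ I) T := hT.isScalarTower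
  let q : (T →₀ R ⧸ I) →ₗ[R] T := (Finsupp.linearCombination (R ⧸ I) id).restrictScalars R
  have hq : Surjective q := fun t => ⟨Finsupp.single t 1, by simp [q]⟩
  let J : Submodule R (T →₀ R ⧸ I) := LinearMap.ker q
  have hex : Exact J.subtype q := LinearMap.exact_subtype_ker_map q
  have htG : Module.IsTorsionBySet R (T →₀ R ⧸ I) I := fun x a => by
    refine Finsupp.ext fun i => ?_
    rw [Finsupp.smul_apply, Finsupp.zero_apply, Algebra.smul_def]
    have : algebraMap R (R ⧸ I) (a : R) = 0 := Ideal.Quotient.eq_zero_iff_mem.mpr a.2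
    rw [this, zero_mul]
  have hinj : Injective (J.subtype.rTensor M) := rTensor_subtype_injective I h htG J
  obtain ⟨y, rfl⟩ := LinearMap.rTensor_surjective Q hq z
  have h1 : q.rTensor F (j.lTensor _ y) = 0 := by
    rw [← hz, ← LinearMap.comp_apply, ← LinearMap.comp_apply, LinearMap.rTensor_comp_lTensor,
      LinearMap.lTensor_comp_rTensor]
  obtain ⟨w, hw⟩ := (rTensor_exact F (M := ↥J) (f := J.subtype) hex hq _).1 h1
  have h2 : π.lTensor J w = 0 := by
    apply hinj
    rw [map_zero, ← LinearMap.comp_apply, LinearMap.rTensor_comp_lTensor,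
      ← LinearMap.lTensor_comp_rTensor, LinearMap.comp_apply, hw, ← LinearMap.comp_apply,
      ← LinearMap.lTensor_comp, hjπ.linearMap_comp_eq_zero, LinearMap.lTensor_zero,
      LinearMap.zero_apply]
  obtain ⟨v, hv⟩ := (lTensor_exact J hjπ hπ _).1 h2
  obtain ⟨η, hη⟩ := mem_range_finsupp I j (y - J.subtype.rTensor Q v) (by
    rw [map_sub, sub_eq_zero, ← hw, ← hv, ← LinearMap.comp_apply, ← LinearMap.comp_apply,
      LinearMap.rTensor_comp_lTensor, LinearMap.lTensor_comp_rTensor])
  refine ⟨q.rTensor H η, ?_⟩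
  rw [← LinearMap.comp_apply, LinearMap.lTensor_comp_rTensor, ← LinearMap.rTensor_comp_lTensor,
    LinearMap.comp_apply, hη, map_sub, sub_eq_self, ← LinearMap.comp_apply,
    ← LinearMap.rTensor_comp, show q ∘ₗ J.subtype = 0 from LinearMap.comp_ker_subtype q,
    LinearMap.rTensor_zero, LinearMap.zero_apply]

variable (R' : Type u) [CommRing R'] [Algebra R R']

/-- `i ⊗ m ↦ i' ⊗ κ (1 ⊗ m)`. -/
noncomputable def torMap (I : Ideal R) {P : Type u} [AddCommGroup P] [Module R' P] [Module R P]
    [IsScalarTower R R' P] (g : M →ₗ[R] P) :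
    I ⊗[R] M →ₗ[R] ↥(I.map (algebraMap R R')) ⊗[R'] P :=
  ((TensorProduct.mapOfCompatibleSMul R' R R ↥(I.map (algebraMap R R')) P).restrictScalars R) ∘ₗ
    TensorProduct.map (Algebra.idealMap R' I) g

/-- If `M/IM` is flat over `R/I` and `κ` kills the image of the kernel of `I ⊗ M → M`, it kills the
kernel of `IR' ⊗ (R' ⊗ M) → R' ⊗ M`. -/
theorem lTensor_eq_zero_of_presentation (I : Ideal R) (h : Module.Flat (R ⧸ I) ((R ⧸ I) ⊗[R] M))
    {P : Type u} [AddCommGroup P] [Module R' P] [Module R P] [IsScalarTower R R' P]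
    (κ : R' ⊗[R] M →ₗ[R'] P)
    (hκ : ∀ x : I ⊗[R] M, I.subtype.rTensor M x = 0 →
      torMap R' I (κ.restrictScalars R ∘ₗ TensorProduct.mk R R' M 1) x = 0)
    {Q F : Type u} [AddCommGroup Q] [Module R Q] [AddCommGroup F] [Module R F] [Module.Flat R F]
    (j : Q →ₗ[R] F) (π : F →ₗ[R] M) (hjπ : Exact j π) (hπ : Surjective π)
    (z : ↥(I.map (algebraMap R R')) ⊗[R'] (R' ⊗[R] M))
    (hz : (I.map (algebraMap R R')).subtype.rTensor (R' ⊗[R] M) z = 0) :
    κ.lTensor ↥(I.map (algebraMap R R')) z = 0 := by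
  classical
  let F' := R' ⊗[R] F
  let π₁ : F' →ₗ[R'] R' ⊗[R] M := π.baseChange R'
  let μ : (I.map (algebraMap R R')) ⊗[R'] F' →ₗ[R'] F' := (TensorProduct.lid R' F').toLinearMap ∘ₗ (I.map (algebraMap R R')).subtype.rTensor F'
  have hμ : Injective μ := (TensorProduct.lid R' F').injective.comp
    (Module.Flat.rTensor_preserves_injective_linearMap _ (I.map (algebraMap R R')).injective_subtype)
  have hμt : ∀ (a : (I.map (algebraMap R R'))) (x : F'), μ (a ⊗ₜ[R'] x) = (a : R') • x := fun a x => rfl
  have hπ₁ : Surjective π₁ := LinearMap.lTensor_surjective R' hπ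
  obtain ⟨y, rfl⟩ := LinearMap.lTensor_surjective _ hπ₁ z
  have hx : π₁ (μ y) = 0 := by
    have : ∀ u, π₁ (μ u) =
        TensorProduct.lid R' _ ((I.map (algebraMap R R')).subtype.rTensor _ (π₁.lTensor _ u)) := fun u => by
      induction u using TensorProduct.induction_on with
      | zero => simp
      | add a b ha hb => simp only [map_add, ha, hb]
      | tmul a x => simp [μ, map_smul]
    rw [this]
    exact (congrArg (TensorProduct.lid R' _) hz).trans (map_zero _)
  obtain ⟨w, hw⟩ := (lTensor_exact R' hjπ hπ (μ y)).1 hx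
  let P₀ : R' ⊗[R] Q → Prop := fun v => ∃ u : (I.map (algebraMap R R')) ⊗[R'] F',
    μ u = j.lTensor R' v ∧ κ.lTensor _ (π₁.lTensor _ u) = 0
  suffices hP : P₀ w by
    obtain ⟨u, hu, hu0⟩ := hP
    rw [hμ (hu.trans hw)] at hu0
    exact hu0
  have hzero : P₀ 0 := ⟨0, by simp, by simp⟩
  have hadd : ∀ a b, P₀ a → P₀ b → P₀ (a + b) := by
    rintro a b ⟨u, hu, hu0⟩ ⟨v, hv, hv0⟩
    exact ⟨u + v, by simp [hu, hv], by simp [hu0, hv0]⟩
  let T := R' ⧸ (I.map (algebraMap R R'))
  have hT : Module.IsTorsionBySet R T I := fun x a => by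
    rw [Algebra.smul_def, IsScalarTower.algebraMap_apply R R' T, Ideal.Quotient.algebraMap_eq,
      Ideal.Quotient.eq_zero_iff_mem.2 (Ideal.mem_map_of_mem _ a.2), zero_mul]
  let qT : R' →ₗ[R] T := (Ideal.Quotient.mkₐ R (I.map (algebraMap R R'))).toLinearMap
  have hwT : j.lTensor T (qT.rTensor Q w) = 0 := by
    rw [← LinearMap.comp_apply, LinearMap.lTensor_comp_rTensor, ← LinearMap.rTensor_comp_lTensor,
      LinearMap.comp_apply, hw]
    have : ∀ u : (I.map (algebraMap R R')) ⊗[R'] F', qT.rTensor _ (μ u) = 0 := fun u => by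
      induction u using TensorProduct.induction_on with
      | zero => simp
      | add a b ha hb => simp only [map_add, ha, hb, add_zero]
      | tmul a x =>
        rw [hμt]
        induction x using TensorProduct.induction_on with
        | zero => simp
        | add c d hc hd => simp only [smul_add, map_add, hc, hd, add_zero]
        | tmul r f =>
          rw [TensorProduct.smul_tmul', LinearMap.rTensor_tmul]
          rw [show qT ((a : R') • r) = 0 from
            Ideal.Quotient.eq_zero_iff_mem.2 (Ideal.mul_mem_right _ _ a.2), TensorProduct.zero_tmul]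
    exact this y
  obtain ⟨η, hη⟩ := mem_range_of_lTensor_eq_zero I h j π hjπ hπ hT _ hwT
  obtain ⟨η', rfl⟩ := LinearMap.rTensor_surjective
    ↥((I • ⊤ : Submodule R F).comap j)
    (show Surjective qT from Ideal.Quotient.mk_surjective) η
  set w_H := ((I • ⊤ : Submodule R F).comap j).subtype.lTensor R' η' with hwH
  have hdiff : qT.rTensor Q (w - w_H) = 0 := by
    rw [map_sub, sub_eq_zero, ← hη, hwH, ← LinearMap.comp_apply, ← LinearMap.comp_apply,
      LinearMap.rTensor_comp_lTensor, LinearMap.lTensor_comp_rTensor]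
  obtain ⟨θ, hθ⟩ := (rTensor_exact Q (f := ((I.map (algebraMap R R')).restrictScalars R).subtype) (g := qT)
    (fun x => by
      show Ideal.Quotient.mk (I.map (algebraMap R R')) x = 0 ↔ _
      rw [Ideal.Quotient.eq_zero_iff_mem]
      exact ⟨fun hx => ⟨⟨x, hx⟩, rfl⟩, by rintro ⟨v, rfl⟩; exact v.2⟩)
    Ideal.Quotient.mk_surjective _).1 hdiff
  rw [show w = (w - w_H) + w_H from (sub_add_cancel _ _).symm]
  refine hadd _ _ ?_ ?_
  · suffices ∀ θ', P₀ ((((I.map (algebraMap R R')).restrictScalars R).subtype).rTensor Q θ') from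
      hθ ▸ this θ
    intro θ'
    clear hθ θ
    induction θ' using TensorProduct.induction_on with
    | zero => rw [map_zero]; exact hzero
    | add a b ha hb => rw [map_add]; exact hadd _ _ ha hb
    | tmul a n =>
      refine ⟨(⟨a.1, a.2⟩ : (I.map (algebraMap R R'))) ⊗ₜ[R'] ((1 : R') ⊗ₜ[R] j n), ?_, ?_⟩
      · rw [hμt, TensorProduct.smul_tmul', smul_eq_mul, mul_one]
        rfl
      · rw [LinearMap.lTensor_tmul, LinearMap.lTensor_tmul]
        have : π₁ ((1 : R') ⊗ₜ[R] j n) = 0 := by
          show (1 : R') ⊗ₜ[R] π (j n) = 0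
          rw [hjπ.apply_apply_eq_zero, TensorProduct.tmul_zero]
        rw [this, map_zero, TensorProduct.tmul_zero]
  · rw [hwH]
    clear hdiff hθ hwH hη θ w_H
    induction η' using TensorProduct.induction_on with
    | zero => rw [map_zero]; exact hzero
    | add a b ha hb => rw [map_add]; exact hadd _ _ ha hb
    | tmul r n =>
      obtain ⟨yh, hyh⟩ : ∃ yh : I ⊗[R] F,
          TensorProduct.lid R _ (I.subtype.rTensor _ yh) = j (n : Q) := by
        have hn : j (n : Q) ∈ I • (⊤ : Submodule R F) := n.2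
        refine Submodule.smul_induction_on hn (fun a ha x _ => ⟨⟨a, ha⟩ ⊗ₜ[R] x, rfl⟩) ?_
        rintro a b ⟨u, hu⟩ ⟨v, hv⟩
        exact ⟨u + v, by simp [hu, hv]⟩
      let lift : I ⊗[R] F →ₗ[R] (I.map (algebraMap R R')) ⊗[R'] F' :=
        torMap R' I (TensorProduct.mk R R' F 1)
      refine ⟨r • lift yh, ?_, ?_⟩
      · rw [map_smul, LinearMap.lTensor_tmul]
        have : ∀ u, μ (lift u) = (1 : R') ⊗ₜ[R] TensorProduct.lid R _ (I.subtype.rTensor _ u) :=
          fun u => by
            induction u using TensorProduct.induction_on with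
            | zero => simp
            | add a b ha hb => simp only [map_add, ha, hb, TensorProduct.tmul_add]
            | tmul a x =>
              show algebraMap R R' (a : R) • ((1 : R') ⊗ₜ[R] x) = (1 : R') ⊗ₜ[R] ((a : R) • x)
              rw [algebraMap_smul, TensorProduct.tmul_smul]
        rw [this, hyh, TensorProduct.smul_tmul', smul_eq_mul, mul_one]
        rfl
      · rw [map_smul, map_smul]
        have : ∀ u, κ.lTensor _ (π₁.lTensor _ (lift u)) =
            torMap R' I (κ.restrictScalars R ∘ₗ TensorProduct.mk R R' M 1) (π.lTensor I u) :=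
          fun u => by
            induction u using TensorProduct.induction_on with
            | zero => simp
            | add a b ha hb => simp only [map_add, ha, hb]
            | tmul a x => rfl
        rw [this, hκ (π.lTensor I yh) ?_, smul_zero]
        apply (TensorProduct.lid R M).injective
        have e : ∀ u, TensorProduct.lid R M (I.subtype.rTensor M (π.lTensor I u)) =
            π (TensorProduct.lid R _ (I.subtype.rTensor _ u)) := fun u => by
          induction u using TensorProduct.induction_on with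
          | zero => simp
          | add a b ha hb => simp only [map_add, ha, hb]
          | tmul a x => simp [map_smul]
        rw [e, hyh, map_zero]
        exact hjπ.apply_apply_eq_zero _

/-- If `M/IM` is flat over `R/I` and `κ` kills the image of the kernel of `I ⊗ M → M`, it kills the
kernel of `IR' ⊗ (R' ⊗ M) → R' ⊗ M`. -/
theorem lTensor_eq_zero_of_kernel (I : Ideal R) (h : Module.Flat (R ⧸ I) ((R ⧸ I) ⊗[R] M))
    {P : Type u} [AddCommGroup P] [Module R' P] [Module R P] [IsScalarTower R R' P]
    (κ : R' ⊗[R] M →ₗ[R'] P)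
    (hκ : ∀ x : I ⊗[R] M, I.subtype.rTensor M x = 0 →
      torMap R' I (κ.restrictScalars R ∘ₗ TensorProduct.mk R R' M 1) x = 0)
    (z : ↥(I.map (algebraMap R R')) ⊗[R'] (R' ⊗[R] M))
    (hz : (I.map (algebraMap R R')).subtype.rTensor (R' ⊗[R] M) z = 0) :
    κ.lTensor ↥(I.map (algebraMap R R')) z = 0 :=
  lTensor_eq_zero_of_presentation R' I h κ hκ
    (Q := ↥(LinearMap.ker (Finsupp.linearCombination R (id : M → M))))
    (Submodule.subtype _) (Finsupp.linearCombination R id) (LinearMap.exact_subtype_ker_map _)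
    (fun m => ⟨Finsupp.single m 1, by simp⟩) z hz

end GrothLib.FlatTor
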