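import Groth.Agent.Lib.FlatTor.Kernel
import Groth.Agent.Lib.FibreFlat.LocCriterion
import Mathlib.RingTheory.Localization.BaseChange

/-!
# The local criterion for a localised base change
-/

universe u

namespace GrothLib.FlatTor

open TensorProduct Function GrothLib.Flatness

variable {R : Type u} [CommRing R] {M : Type u} [AddCommGroup M] [Module R M]
  (R' : Type u) [CommRing R'] [Algebra R R']

/-- If `M/IM` is flat over `R/I`, the base change `R' ⊗ M` preserves injections of modules killed
by `IR'`. -/
theorem lTensor_injective_baseChange (I : Ideal R) (h : Module.Flat (R ⧸ I) ((R ⧸ I) ⊗[R] M))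
    (A B : Type u) [AddCommGroup A] [Module R' A] [AddCommGroup B] [Module R' B]
    (f : A →ₗ[R'] B)
    (hA : Module.IsTorsionBySet R' A (I.map (algebraMap R R') : Ideal R'))
    (hB : Module.IsTorsionBySet R' B (I.map (algebraMap R R') : Ideal R')) (hf : Injective f) :
    Injective (f.lTensor (R' ⊗[R] M)) := by
  letI : Module R A := Module.compHom A (algebraMap R R')
  letI : Module R B := Module.compHom B (algebraMap R R')
  haveI : IsScalarTower R R' A := IsScalarTower.of_algebraMap_smul fun _ _ => rfl
  haveI : IsScalarTower R R' B := IsScalarTower.of_algebraMap_smul fun _ _ => rfl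
  let g := f.restrictScalars R
  have hg : Injective (g.rTensor M) :=
    (LinearMap.lTensor_inj_iff_rTensor_inj M g).1 (lTensor_injective_of_flat_quotient I h
      (FibreFlat.isTorsion_quotient_map I A hA) (FibreFlat.isTorsion_quotient_map I B hB) g hf)
  let cA : (R' ⊗[R] M) ⊗[R'] A ≃ₗ[R'] A ⊗[R] M :=
    TensorProduct.comm R' _ _ ≪≫ₗ AlgebraTensorModule.cancelBaseChange R R' R' A M
  let cB : (R' ⊗[R] M) ⊗[R'] B ≃ₗ[R'] B ⊗[R] M :=
    TensorProduct.comm R' _ _ ≪≫ₗ AlgebraTensorModule.cancelBaseChange R R' R' B M
  have key : ∀ x, cB (f.lTensor _ x) = g.rTensor M (cA x) := fun x => by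
    induction x using TensorProduct.induction_on with
    | zero => simp
    | add a b ha hb => simp only [map_add, ha, hb]
    | tmul y a =>
      induction y using TensorProduct.induction_on with
      | zero => simp
      | add p q hp hq => simp only [add_tmul, map_add, hp, hq]
      | tmul s m => simp [cA, cB, g]
  intro x y hxy
  apply cA.injective
  apply hg
  rw [← key, ← key, hxy]

variable {R'}
variable {B₀ : Type u} [CommRing B₀] [Algebra R' B₀]
  {N : Type u} [AddCommGroup N] [Module B₀ N] [Module R' N] [IsScalarTower R' B₀ N]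
  {L : Type u} [AddCommGroup L] [Module B₀ L] [Module R' L] [IsScalarTower R' B₀ L]

/-- If the kernel of `N ⊗ A → N ⊗ C` dies in `L ⊗ A` and `L` is a localisation of `N`, then
`L ⊗ A → L ⊗ C` is injective. -/
theorem lTensor_injective_of_localised (W : Submonoid B₀) (ι : N →ₗ[B₀] L)
    [IsLocalizedModule W ι] {A C : Type u} [AddCommGroup A] [Module R' A]
    [AddCommGroup C] [Module R' C] (φ : A →ₗ[R'] C)
    (h : ∀ y, φ.lTensor N y = 0 → (ι.restrictScalars R').rTensor A y = 0) :
    Injective (φ.lTensor L) := by
  let ιA := AlgebraTensorModule.rTensor R' A ι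
  let ιC := AlgebraTensorModule.rTensor R' C ι
  let φN := AlgebraTensorModule.lTensor B₀ N φ
  let φL := AlgebraTensorModule.lTensor B₀ L φ
  have comm : ∀ y, φL (ιA y) = ιC (φN y) := fun y => by
    induction y using TensorProduct.induction_on with
    | zero => simp
    | add a b ha hb => simp only [map_add, ha, hb]
    | tmul n a => rfl
  have hι : ∀ y, φN y = 0 → ιA y = 0 := fun y hy => h y hy
  refine (injective_iff_map_eq_zero φL).2 fun z hz => ?_
  obtain ⟨⟨y, w⟩, hw⟩ := IsLocalizedModule.surj W ιA z
  have h0 : ιC (φN y) = ιC 0 := by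
    rw [← comm, ← hw, LinearMap.map_smul_of_tower, hz, smul_zero, map_zero]
  obtain ⟨w', hw'⟩ := (IsLocalizedModule.eq_iff_exists W ιC).1 h0
  rw [smul_zero] at hw'
  have h1 : ιA (w' • y) = 0 := hι _ (by rw [LinearMap.map_smul_of_tower, hw'])
  rw [LinearMap.map_smul_of_tower, ← hw, ← mul_smul] at h1
  exact IsLocalizedModule.smul_injective ιA (w' * w) (h1.trans (smul_zero _).symm)

variable (R') in
/-- **Local criterion after a localised base change**. -/
theorem flat_localised_baseChange [IsNoetherianRing R'] {S' : Type u} [CommRing S']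
    [IsNoetherianRing S'] [Algebra R' S'] [Module S' L] [IsScalarTower R' S' L]
    [Module.Finite S' L] [Module R L] [IsScalarTower R R' L] (I : Ideal R)
    (hI : (I.map (algebraMap R R')).map (algebraMap R' S') ≤ Ideal.jacobson ⊥)
    (h : Module.Flat (R ⧸ I) ((R ⧸ I) ⊗[R] M))
    (e : N ≃ₗ[R'] R' ⊗[R] M) (W : Submonoid B₀) (ι : N →ₗ[B₀] L) [IsLocalizedModule W ι]
    (hκ : ∀ x : I ⊗[R] M, I.subtype.rTensor M x = 0 →
      torMap R' I ((ι.restrictScalars R' ∘ₗ e.symm.toLinearMap).restrictScalars R ∘ₗ
        TensorProduct.mk R R' M 1) x = 0) :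
    Module.Flat R' L := by
  have h1 : Injective ((I.map (algebraMap R R')).subtype.lTensor L) := by
    refine lTensor_injective_of_localised W ι _ fun y hy => ?_
    let κ := ι.restrictScalars R' ∘ₗ e.symm.toLinearMap
    let c := e.toLinearMap.lTensor ↥(I.map (algebraMap R R')) ∘ₗ
      (TensorProduct.comm R' N _).toLinearMap
    have k1 : ∀ y, (I.map (algebraMap R R')).subtype.rTensor (R' ⊗[R] M) (c y) =
        e.toLinearMap.lTensor R' (TensorProduct.comm R' N R'
          ((I.map (algebraMap R R')).subtype.lTensor N y)) := fun y => by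
      induction y using TensorProduct.induction_on with
      | zero => simp
      | add a b ha hb => simp only [map_add, ha, hb]
      | tmul n a => simp [c]
    have k2 : ∀ y, TensorProduct.comm R' L _
        ((ι.restrictScalars R').rTensor ↥(I.map (algebraMap R R')) y) = κ.lTensor _ (c y) :=
      fun y => by
      induction y using TensorProduct.induction_on with
      | zero => simp
      | add a b ha hb => simp only [map_add, ha, hb]
      | tmul n a => simp [c, κ]
    apply (TensorProduct.comm R' L _).injective
    rw [map_zero, k2]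
    exact lTensor_eq_zero_of_kernel R' I h κ hκ _ (by rw [k1, hy, map_zero, map_zero])
  have h2 : Module.Flat (R' ⧸ I.map (algebraMap R R'))
      ((R' ⧸ I.map (algebraMap R R')) ⊗[R'] L) := by
    refine FibreFlat.flat_quotient_of_lTensor_injective _ fun A B _ _ _ _ f hA hB hf => ?_
    have hK := lTensor_injective_baseChange (M := M) R' I h A B f hA hB hf
    have hN : Injective (f.lTensor N) := by
      have h2 : f.lTensor N = (e.symm.toLinearMap.rTensor B) ∘ₗ
          f.lTensor (R' ⊗[R] M) ∘ₗ (e.toLinearMap.rTensor A) :=
        TensorProduct.ext' fun n a => by simp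
      rw [h2]
      exact (e.symm.rTensor B).injective.comp (hK.comp (e.rTensor A).injective)
    exact lTensor_injective_of_localised W ι f fun y hy => by
      rw [hN (hy.trans (map_zero _).symm), map_zero]
  exact flat_of_localCriterion (S := S') _ hI h1 h2

end GrothLib.FlatTor
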